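import Groth.Agent.Lib.ExtFin9.Fin
import Groth.Agent.Lib.DGen9.KoszulOrth
import Groth.Agent.Lib.DQC.Affine
import Groth.Agent.Lib.DMon9.ProjQC
import Groth.Agent.Lib.DMon9.LpullIso
import Groth.Agent.Lib.RelPCS4.Comp
import Groth.Agent.Lib.PunctFree27.Scheme
import Groth.Agent.Lib.DMV.Derived

/-! Cohomology modules through the derived direct image to the affine base, linearly. -/

set_option autoImplicit false
set_option linter.unusedSectionVars false
set_option linter.style.haveILetI false
set_option backward.isDefEq.respectTransparency false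
set_option backward.isDefEq.respectTransparency.types false
set_option maxHeartbeats 1600000

universe u

open CategoryTheory CategoryTheory.Limits AlgebraicGeometry Opposite Pretriangulated

attribute [local instance] HasDerivedCategory.standard

namespace Groth.Agent.PCHH9

variable (A : Type u) [CommRing A]

local notation "Cxℤ" => ComplexShape.up ℤ

section Linear

variable {X Y : Scheme.{u}} [X.Over (Spec (CommRingCat.of A))] [Y.Over (Spec (CommRingCat.of A))]
  (f : X ⟶ Y) [f.IsOver (Spec (CommRingCat.of A))] [DCoh.HasRpush f]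

/-- The comparison with a K-injective complex is natural. -/
theorem pushIso_naturality {I J : CochainComplex X.Modules ℤ} [I.IsKInjective] [J.IsKInjective] (φ : I ⟶ J) :
    DerivedCategory.Q.map (((Scheme.Modules.pushforward f).mapHomologicalComplex Cxℤ).map φ) ≫ (DMV.pushIso f J).hom =
      (DMV.pushIso f I).hom ≫ (DCoh.Rpush f).map (DerivedCategory.Q.map φ) := by
  have h1 := (DerivedCategory.quotientCompQhIso Y.Modules).inv.naturality
    (((Scheme.Modules.pushforward f).mapHomologicalComplex Cxℤ).map φ)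
  have h2 := ((Scheme.Modules.pushforward f).mapHomotopyCategoryFactors Cxℤ).inv.naturality φ
  have h3 := (DPush.unit f).naturality ((HomotopyCategory.quotient X.Modules Cxℤ).map φ)
  have h4 := (DerivedCategory.quotientCompQhIso X.Modules).hom.naturality φ
  dsimp only [Functor.comp_map, Functor.comp_obj] at h1 h2 h3 h4
  simp only [DMV.pushIso, Iso.trans_hom, Iso.symm_hom, Functor.mapIso_hom, asIso_hom, Iso.app_inv, Iso.app_hom,
    Category.assoc]
  rw [reassoc_of% h1, ← Functor.map_comp_assoc, h2, Functor.map_comp_assoc]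
  erw [reassoc_of% h3]
  rw [← Functor.map_comp]
  erw [h4]
  rw [Functor.map_comp]

/-- Derived direct image is linear over the base. -/
theorem linear_rpush : (DCoh.Rpush f).Linear A := by
  refine (Functor.linear_iff A _).mpr fun K a => ?_
  obtain ⟨I, hI, ⟨e⟩⟩ := KInjLib.exists_iso_kInjective K
  haveI := hI
  have hK : (a • 𝟙 K : K ⟶ K) = e.hom ≫ DerivedCategory.Q.map (a • 𝟙 I) ≫ e.inv := by
    rw [Functor.map_smul, CategoryTheory.Functor.map_id, Linear.smul_comp, Category.id_comp, Linear.comp_smul,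
      Iso.hom_inv_id]
  have hn : (DCoh.Rpush f).map (DerivedCategory.Q.map (a • 𝟙 I)) = a • 𝟙 _ := by
    rw [← cancel_epi (DMV.pushIso f I).hom, ← pushIso_naturality f (a • 𝟙 I), Functor.map_smul,
      CategoryTheory.Functor.map_id, Functor.map_smul, CategoryTheory.Functor.map_id, Linear.comp_smul,
      Linear.smul_comp, Category.id_comp]
    exact congrArg (a • ·) (Category.comp_id _).symm
  rw [hK, Functor.map_comp, Functor.map_comp, hn, Linear.smul_comp, Category.id_comp, Linear.comp_smul,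
    ← Functor.map_comp, Iso.hom_inv_id, CategoryTheory.Functor.map_id]

end Linear

/-- `tilde` is linear over the ring, for the structure of `Spec A` over itself. -/
theorem linear_tilde [(Spec (CommRingCat.of A)).Over (Spec (CommRingCat.of A))]
    (h : (Spec (CommRingCat.of A) ↘ Spec (CommRingCat.of A)) = 𝟙 _) :
    (tilde.functor (CommRingCat.of A)).Linear A := by
  refine (Functor.linear_iff A _).mpr fun N a => ?_
  refine (PunctFree27.tilde_map_smul (R := CommRingCat.of A) N a).trans ?_
  rw [KLin.smul_id, Formal.smulMod]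
  congr 1
  rw [h]
  rfl

variable (X : Scheme.{u}) [X.Over (Spec (CommRingCat.of A))]

/-- Cohomology is the homology of the module computing the derived direct image. -/
theorem nonempty_HH_linearEquiv (G : X.Modules) (M : Dual.D A) [DCoh.HasRpush (X ↘ Spec (CommRingCat.of A))]
    (e : (DPerf.tildeDD (CommRingCat.of A)).obj M ≅
      (DCoh.Rpush (X ↘ Spec (CommRingCat.of A))).obj (DCoh.inD X G)) (n : ℕ) :
    Nonempty (Coh.HH X G n ≃ₗ[A] Dual.HD A M (n : ℤ)) := by
  let S := Spec (CommRingCat.of A)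
  let f : X ⟶ S := X ↘ Spec (CommRingCat.of A)
  letI : S.Over (Spec (CommRingCat.of A)) := ⟨𝟙 S⟩
  haveI : f.IsOver (Spec (CommRingCat.of A)) := ⟨Category.comp_id _⟩
  haveI := linear_tilde A (rfl : (S ↘ Spec (CommRingCat.of A)) = 𝟙 S)
  haveI := linear_rpush A f
  haveI : DCoh.HasLpull f := KFlat.Sch.hasLpull f
  obtain ⟨ν⟩ := DMon9.nonempty_lpull_natIso_lP f
  let adj := (DMon9.adjLP f).ofNatIsoLeft ν.symm
  obtain ⟨e₀⟩ := RelPCS4.nonempty_lpull_unit f
  obtain ⟨_, _⟩ := DPush.exists_commShift_isTriangulated f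
  haveI : (DCoh.Rpush f).Additive := inferInstance
  obtain ⟨u⟩ := ExtFin9.exists_ext_linearEquiv A G n
  let T := DPerf.tildeDD (CommRingCat.of A)
  let O := DCoh.inD X (Coh.structureModule X)
  let P : Dual.D A := DGen9.pt (R := A) 0
  let ζ : DCoh.inD S (Coh.structureModule S) ≅ T.obj P := DGen9.KO.oneIso (R := CommRingCat.of A)
  let η : (DCoh.Rpush f).obj ((DCoh.inD X G)⟦(n : ℤ)⟧) ≅ T.obj (M⟦(n : ℤ)⟧) :=
    ((DCoh.Rpush f).commShiftIso (n : ℤ)).app _ ≪≫ (shiftFunctor (DCoh.D S) (n : ℤ)).mapIso e.symm ≪≫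
      ((T.commShiftIso (n : ℤ)).app M).symm
  let ψ : (O ⟶ (DCoh.inD X G)⟦(n : ℤ)⟧) ≃ₗ[A] (T.obj P ⟶ T.obj (M⟦(n : ℤ)⟧)) :=
    { toFun := fun w => ζ.inv ≫ adj.homEquiv _ _ (e₀.hom ≫ w) ≫ η.hom
      invFun := fun w => e₀.inv ≫ (adj.homEquiv _ _).symm (ζ.hom ≫ w ≫ η.inv)
      left_inv := fun w => by simp
      right_inv := fun w => by simp
      map_add' := fun v w => by
        rw [adj.homEquiv_unit, adj.homEquiv_unit, adj.homEquiv_unit, Preadditive.comp_add, Functor.map_add,
          Preadditive.comp_add, Preadditive.add_comp, Preadditive.comp_add]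
      map_smul' := fun a w => by
        rw [adj.homEquiv_unit, adj.homEquiv_unit, Functor.map_comp, Functor.map_comp, Functor.map_smul,
          Linear.comp_smul, Linear.comp_smul, Linear.smul_comp, Linear.comp_smul]
        rfl }
  let τ : (P ⟶ M⟦(n : ℤ)⟧) ≃ₗ[A] (T.obj P ⟶ T.obj (M⟦(n : ℤ)⟧)) :=
    LinearEquiv.ofBijective (T.mapLinearMap A) (DQC.bijective_map _ _)
  let σ : ((DerivedCategory.homologyFunctor (ModuleCat.{u} A) 0).obj (M⟦(n : ℤ)⟧)) ≅
      (DerivedCategory.homologyFunctor (ModuleCat.{u} A) (n : ℤ)).obj M :=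
    ((DerivedCategory.homologyFunctor (ModuleCat.{u} A) 0).shiftIso (n : ℤ) 0 (n : ℤ) (by omega)).app M
  exact ⟨u.symm ≪≫ₗ Abelian.Ext.homLinearEquiv (R := A) ≪≫ₗ ψ ≪≫ₗ τ.symm ≪≫ₗ
    DGen9.eltEquiv (0 : ℤ) (M⟦(n : ℤ)⟧) ≪≫ₗ σ.toLinearEquiv⟩

end Groth.Agent.PCHH9
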